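import Groth.Agent.GBC.PushFree
import Groth.Agent.GBC.Formal
import Groth.Agent.RBC.TorInd
import Groth.Agent.PushAmp.RelPCBaseChangeAll
import Groth.Agent.PushAmp.Adjoint
import Groth.Agent.ProjPush.TensorClosed
import Groth.Agent.AmpleVan.AdicBase
import Groth.Agent.AmpleVan.Mul
import Groth.Agent.KRRReg.BaseChange
import Groth.Agent.PicGlue.RpushAffine
import Groth.Agent.SheafHomX.Extra
import Groth.Agent.SheafHomX.Main
import Groth.Agent.QCoh.SupportFT
import Groth.Prelude.Def_PerfAux
import Groth.Prelude.Def_Mor2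

/-!
# The resolution property descends along finite locally free surjections
-/

set_option autoImplicit false
set_option linter.style.haveILetI false
set_option backward.isDefEq.respectTransparency false
set_option backward.isDefEq.respectTransparency.types false
set_option maxHeartbeats 800000
set_option synthInstance.maxHeartbeats 400000

universe u

open CategoryTheory CategoryTheory.Limits AlgebraicGeometry

attribute [local instance] HasDerivedCategory.standard

noncomputable section

namespace Groth.Agent.FinDescRes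

open Groth.Agent Groth.Agent.KFlatLib Groth.Agent.DQGen Groth.Agent.RBC

attribute [local instance] hasLpull hasRpush_scheme hasLTensorMod hasLTensorCx

variable {X Y : Scheme.{u}} (f : X ⟶ Y)

/-- Direct images of vector bundles along finite locally free morphisms. -/
theorem isFinLocFree_push [IsFinite f] [Flat f] [LocallyOfFinitePresentation f] {E : X.Modules}
    (hE : FlatMod.IsFinLocFree E) : FlatMod.IsFinLocFree ((Scheme.Modules.pushforward f).obj E) :=
  GBC.isFinLocFree_push f E (QCoh.isFP_of_isFinLocFree hE) (KRRReg.isFlatOver_of_flat f hE)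
    (PushAmp.isProperOver_of_isProper f
      (QCoh.isClosed_support_of_ft (QCoh.isFT_of_isFP (QCoh.isFP_of_isFinLocFree hE))))
    fun i hi => PicGlue.isZero_Rpush_of_isAffineHom f E (QCoh.isQCoh_of_isFinLocFree hE) i hi

theorem isFinLocFree_structure (X : Scheme.{u}) : FlatMod.IsFinLocFree (Coh.structureModule X) :=
  H23.PullPush.isFinLocFree_of_iso (coproductUniqueIso fun _ : Fin 1 => Coh.structureModule X)
    (fun x => KFlatLib.isFinLocFree_freeMod 1 x)

/-- The projection formula for `f_*O`. -/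
theorem nonempty_tensor_push [IsAffineHom f] [Flat f] {F : Y.Modules} (hF : Coh.IsQCoh F)
    (hA : FlatMod.IsFinLocFree ((Scheme.Modules.pushforward f).obj (Coh.structureModule X))) :
    Nonempty ((DCoh.tensorBi.obj ((Scheme.Modules.pushforward f).obj (Coh.structureModule X))).obj F ≅
      (Scheme.Modules.pushforward f).obj ((Scheme.Modules.pullback f).obj F)) := by
  let A := (Scheme.Modules.pushforward f).obj (Coh.structureModule X)
  let G := (Scheme.Modules.pullback f).obj F
  let S := HomologicalComplex.single Y.Modules (ComplexShape.up ℤ) 0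
  haveI := PushAmp.preservesFiniteLimits_pullback_flat f
  obtain ⟨l⟩ := PushAmp.nonempty_lpull_flat f (Iso.refl (DerivedCategory.Q.obj (S.obj F)))
  obtain ⟨p⟩ := nonempty_projection_DQCoh f (DCoh.inD X (Coh.structureModule X))
    (GBC.isQCohD_sD QCoh.isQCoh_structureModule 0) (S.obj F)
    (isQCohD_of_iso ((DerivedCategory.singleFunctorIsoCompQ Y.Modules 0).app F) (GBC.isQCohD_sD hF 0))
    ((HomologicalComplex.single X.Modules (ComplexShape.up ℤ) 0).obj G)
    ⟨DerivedCategory.Q.mapIso ((HomologicalComplex.singleMapHomologicalComplex (Scheme.Modules.pullback f)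
      (ComplexShape.up ℤ) 0).app F).symm ≪≫ l.symm⟩
  obtain ⟨a⟩ := ProjPush.nonempty_ltensorMod_cx F ((DCoh.Rpush f).obj (DCoh.inD X (Coh.structureModule X)))
  obtain ⟨b⟩ := ProjPush.nonempty_ltensorMod_cx G (DCoh.inD X (Coh.structureModule X))
  obtain ⟨c⟩ := GBC.nonempty_ltensorMod_oD G
  obtain ⟨r⟩ := RBC.nonempty_rpush_inD f (QCoh.isQCoh_structureModule (X := X))
  obtain ⟨r'⟩ := RBC.nonempty_rpush_inD f (QCoh.isQCoh_pullback f hF)
  have hK : DCoh.IsKFlat (S.obj A) :=
    isKFlat_of_isStrictlyLE _ 0 (isFlat_single 0 (isFlat_of_isFinLocFree hA))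
  haveI := isIso_ltensorModComparison F hK
  let e : (tensorModCx F).obj (S.obj A) ≅ S.obj ((DCoh.tensorBi.obj A).obj F) :=
    (HomologicalComplex.singleMapHomologicalComplex (DCoh.tensorRightMod F) (ComplexShape.up ℤ) 0).app A ≪≫
      S.mapIso ((Exactness.flipTensorIso F).app A).symm
  let eL : (DCoh.LTensorMod F).obj (DCoh.inD Y A) ≅ DCoh.inD Y ((DCoh.tensorBi.obj A).obj F) :=
    (DCoh.LTensorMod F).mapIso ((DerivedCategory.singleFunctorIsoCompQ Y.Modules 0).app A) ≪≫
      asIso ((ltensorModComparison F).app (S.obj A)) ≪≫ DerivedCategory.Q.mapIso e ≪≫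
      ((DerivedCategory.singleFunctorIsoCompQ Y.Modules 0).app _).symm
  exact ⟨(DerivedCategory.singleFunctor Y.Modules 0).preimageIso
    (eL.symm ≪≫ (DCoh.LTensorMod F).mapIso r.symm ≪≫ a ≪≫ p ≪≫
      (DCoh.Rpush f).mapIso (b.symm ≪≫ c) ≪≫ r')⟩

/-- Evaluation on a vector bundle of positive rank is an epimorphism. -/
theorem epi_counit (A : Y.Modules) (hA : ∀ y : Y, ∃ (W : Y.Opens) (n : ℕ), y ∈ W ∧ 0 < n ∧
    Nonempty (A.restrict W.ι ≅ FlatMod.freeMod (↑W) n)) :
    Epi ((SheafHomX.adj A).counit.app (Coh.structureModule Y)) := by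
  refine Preadditive.epi_of_cancel_zero _ fun {T} g hg => ?_
  have h0 : (SheafHomX.hom A).map g = 0 := by
    refine SheafHomX.hom_ext ?_
    rw [Adjunction.homEquiv_counit, Adjunction.homEquiv_counit, Functor.map_zero, zero_comp]
    exact ((SheafHomX.adj A).counit.naturality g).trans hg
  choose W n hyW hn e using hA
  refine SheafHomX.eq_zero_of_restrict (fun y : Y => (W y).ι) (fun y => ?_) g fun y => ?_
  · exact ⟨y, ⟨y, hyW y⟩, rfl⟩
  let r := Scheme.Modules.restrictFunctor (W y).ι
  have h1 : (SheafHomX.hom (r.obj A)).map (r.map g) = 0 := by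
    have h := SheafHomX.restrict_map (W y).ι A g
    rw [h0, Functor.map_zero, zero_comp] at h
    exact (cancel_epi ((SheafHomX.restrictIso (W y).ι A).hom.app (Coh.structureModule Y))).1
      (h.symm.trans comp_zero.symm)
  let t : r.obj (Coh.structureModule Y) ≅ Coh.structureModule (W y : Scheme.{u}) :=
    KFlatLib.restrictStructureIso (W y).ι
  let φ : r.obj A ⟶ r.obj (Coh.structureModule Y) :=
    (e y).some.hom ≫ Sigma.desc (fun _ => 𝟙 _) ≫ t.inv
  haveI : Epi (Sigma.desc (fun _ : Fin (n y) => 𝟙 (Coh.structureModule (W y : Scheme.{u})))) :=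
    SplitEpi.epi ⟨Sigma.ι (fun _ : Fin (n y) => Coh.structureModule (W y : Scheme.{u})) ⟨0, hn y⟩,
      Sigma.ι_desc _ _⟩
  haveI : Epi φ := inferInstance
  refine (cancel_epi φ).1 ?_
  have h2 := SheafHomX.ev_naturality ((SheafHomX.ev _ _).symm φ) (r.map g)
  rw [h1, comp_zero, map_zero, AddEquiv.apply_symm_apply] at h2
  rw [comp_zero]
  exact h2.symm

/-- `f_*O` has positive rank. -/
theorem pos_rank [Surjective f] {y : Y} {W : Y.Opens} {n : ℕ} (hy : y ∈ W)
    (e : ((Scheme.Modules.pushforward f).obj (Coh.structureModule X)).restrict W.ι ≅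
      FlatMod.freeMod (↑W) n) : 0 < n := by
  rcases Nat.eq_zero_or_pos n with rfl | h
  swap
  · exact h
  exfalso
  have hZ : IsZero (((Scheme.Modules.pushforward f).obj (Coh.structureModule X)).restrict W.ι) :=
    IsZero.of_iso ((IsZero.iff_id_eq_zero _).2 (Sigma.hom_ext _ _ fun i => i.elim0)) e
  obtain ⟨x, hx⟩ := f.surjective y
  let U : X.Opens := f ⁻¹ᵁ (W.ι ''ᵁ ⊤)
  haveI : Nonempty U := ⟨⟨x, ⟨y, hy⟩, trivial, hx.symm⟩⟩
  have h0 : ∀ s : Γ(((Scheme.Modules.pushforward f).obj (Coh.structureModule X)).restrict W.ι, ⊤), s = 0 :=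
    fun s => congr(($(hZ.eq_of_src (𝟙 _) 0)).app ⊤ s)
  have h1 : (1 : Γ(X, U)) = 0 := h0 (1 : Γ(X, U))
  exact one_ne_zero h1

/-- The resolution property descends along finite locally free surjections. -/
theorem hasResolutionProperty (hf : Mor2.IsFinLocFree f) [Surjective f]
    (hX : PerfAux.HasResolutionProperty X) : PerfAux.HasResolutionProperty Y := by
  intro F hF hft
  haveI : IsFinite f := hf.1
  haveI : Flat f := hf.2.1
  haveI : LocallyOfFinitePresentation f := hf.2.2
  let A := (Scheme.Modules.pushforward f).obj (Coh.structureModule X)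
  have hA : FlatMod.IsFinLocFree A := isFinLocFree_push f (isFinLocFree_structure X)
  obtain ⟨e⟩ := nonempty_tensor_push f hF hA
  obtain ⟨E, π, hE, hπ⟩ := hX _ (QCoh.isQCoh_pullback f hF) (QCoh.isFT_pullback f hF hft)
  let D := (SheafHomX.hom A).obj (Coh.structureModule Y)
  have hD : FlatMod.IsFinLocFree D := SheafHomX.isFinLocFree_hom hA (isFinLocFree_structure Y)
  haveI : Epi ((Scheme.Modules.pushforward f).map π) :=
    AmpleVan.epi_push f (QCoh.isQCoh_of_isFinLocFree hE) (QCoh.isQCoh_pullback f hF) π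
  haveI : Epi ((SheafHomX.adj A).counit.app (Coh.structureModule Y)) := epi_counit A fun y => by
    obtain ⟨W, n, hy, ⟨ε⟩⟩ := hA y
    exact ⟨W, n, hy, pos_rank f hy ε, ⟨ε⟩⟩
  haveI : PreservesColimitsOfSize.{u, u} ((DCoh.tensorBi (X := Y)).obj D) :=
    ⟨fun {K} _ => preservesColimitsOfShape_of_natIso ((KFlatLib.tensorBiFlipIso Y).app D)⟩
  haveI : PreservesFiniteColimits ((DCoh.tensorBi (X := Y)).obj D) :=
    PreservesColimitsOfSize.preservesFiniteColimits _
  haveI : PreservesColimitsOfSize.{u, u} (SheafHomX.ten (X := Y) F) := inferInstance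
  haveI : PreservesFiniteColimits (SheafHomX.ten (X := Y) F) :=
    PreservesColimitsOfSize.preservesFiniteColimits _
  let ψ₁ : (DCoh.tensorBi.obj D).obj ((Scheme.Modules.pushforward f).obj E) ⟶
      (DCoh.tensorBi.obj D).obj ((DCoh.tensorBi.obj A).obj F) :=
    (DCoh.tensorBi.obj D).map ((Scheme.Modules.pushforward f).map π ≫ e.inv)
  haveI : Epi ψ₁ := (DCoh.tensorBi.obj D).map_epi _
  let ψ₂ : (DCoh.tensorBi.obj ((DCoh.tensorBi.obj D).obj A)).obj F ⟶
      (DCoh.tensorBi.obj (Coh.structureModule Y)).obj F :=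
    (SheafHomX.ten F).map ((SheafHomX.adj A).counit.app (Coh.structureModule Y))
  haveI : Epi ψ₂ := (SheafHomX.ten F).map_epi _
  let a : (DCoh.tensorBi.obj ((DCoh.tensorBi.obj D).obj A)).obj F ≅
      (DCoh.tensorBi.obj D).obj ((DCoh.tensorBi.obj A).obj F) := AmpleVan.assocT D A F
  exact ⟨_, ψ₁ ≫ a.inv ≫ ψ₂ ≫ (KFlatLib.structureTensorIso F).hom,
    KFlatLib.isFinLocFree_tensor hD (isFinLocFree_push f hE), inferInstance⟩

end Groth.Agent.FinDescRes
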